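import Mathlib

set_option autoImplicit false

/-!
Sourour's factorization in degree 3: for `b` with `1, b, b⁻¹` pairwise distinct, every non-scalar element of
`SL(3,F)` is a product of two `SL(3,F)`-conjugates of `diag(1, b, b⁻¹)`.
-/

namespace CfsgLib.SL3Cover

open Matrix
open scoped MatrixGroups

variable {F : Type*} [Field F]

local notation "M3" => Matrix (Fin 3) (Fin 3) F

/-- Similarity in `GL(3,F)`, with the conjugator on the right. -/
def Sim (A B : M3) : Prop := ∃ P : M3, P.det ≠ 0 ∧ A * P = P * B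

theorem Sim.refl (A : M3) : Sim A A := ⟨1, by simp, by simp⟩

theorem Sim.trans {A B C : M3} (h : Sim A B) (h' : Sim B C) : Sim A C := by
  obtain ⟨P, hP, e⟩ := h
  obtain ⟨Q, hQ, e'⟩ := h'
  refine ⟨P * Q, by rw [det_mul]; exact mul_ne_zero hP hQ, ?_⟩
  rw [← mul_assoc, e, mul_assoc, e', mul_assoc]

theorem Sim.det_eq {A B : M3} (h : Sim A B) : A.det = B.det := by
  obtain ⟨P, hP, e⟩ := h
  have := congrArg Matrix.det e
  rw [det_mul, det_mul, mul_comm] at this
  exact mul_left_cancel₀ hP this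

theorem eq_of_conj {A B P : M3} (hP : P.det ≠ 0) (e : A * P = P * B) : B = P⁻¹ * A * P := by
  rw [mul_assoc, e, ← mul_assoc, Matrix.nonsing_inv_mul P hP.isUnit, one_mul]

theorem sim_inv_mul (A : M3) {P : M3} (hP : P.det ≠ 0) : Sim A (P⁻¹ * A * P) :=
  ⟨P, hP, by rw [← mul_assoc, ← mul_assoc, Matrix.mul_nonsing_inv P hP.isUnit, one_mul]⟩

/-- A non-scalar matrix is similar to one with first column `(m, 1, 0)`. -/
theorem exists_sim_first_col (A : M3) (m : F) (hA : ∀ r : F, A ≠ r • (1 : M3)) :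
    ∃ M : M3, Sim A M ∧ M 0 0 = m ∧ M 1 0 = 1 ∧ M 2 0 = 0 := by
  obtain ⟨a, b, c, k, hd⟩ : ∃ (a b c : F) (k : Fin 3),
      Matrix.det !![a, A 0 0 * a + A 0 1 * b + A 0 2 * c - m * a, (if k = 0 then 1 else 0);
                    b, A 1 0 * a + A 1 1 * b + A 1 2 * c - m * b, (if k = 1 then 1 else 0);
                    c, A 2 0 * a + A 2 1 * b + A 2 2 * c - m * c, (if k = 2 then 1 else 0)] ≠ 0 := by
    by_contra h
    push Not at h
    have h01 := h 1 0 0 2
    have h02 := h 1 0 0 1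
    have h10 := h 0 1 0 2
    have h12 := h 0 1 0 0
    have h20 := h 0 0 1 1
    have h21 := h 0 0 1 0
    have d01 := h 1 1 0 2
    have d12 := h 0 1 1 0
    simp [Matrix.det_fin_three] at h01 h02 h10 h12 h20 h21 d01 d12
    apply hA (A 0 0)
    ext i j
    fin_cases i <;> fin_cases j <;> simp <;> grind
  set v : Fin 3 → F := ![a, b, c] with hv
  set P : M3 := !![a, A 0 0 * a + A 0 1 * b + A 0 2 * c - m * a, (if k = 0 then 1 else 0);
                    b, A 1 0 * a + A 1 1 * b + A 1 2 * c - m * b, (if k = 1 then 1 else 0);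
                    c, A 2 0 * a + A 2 1 * b + A 2 2 * c - m * c, (if k = 2 then 1 else 0)] with hP
  refine ⟨P⁻¹ * A * P, sim_inv_mul A hd, ?_⟩
  have hcol : (A * P).col 0 = (P * !![m, 0, 0; 1, 0, 0; 0, 0, 0]).col 0 := by
    ext i
    fin_cases i <;> simp [hP, Matrix.mul_apply, Fin.sum_univ_three] <;> fin_cases k <;> simp <;> ring
  have hu := Matrix.nonsing_inv_mul P hd.isUnit
  have key : ∀ i, (P⁻¹ * A * P) i 0 = (!![m, 0, 0; 1, 0, 0; 0, 0, 0] : M3) i 0 := by
    intro i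
    have : (P⁻¹ * A * P) i 0 = (P⁻¹ * (P * !![m, 0, 0; 1, 0, 0; 0, 0, 0])) i 0 := by
      rw [mul_assoc, Matrix.mul_apply, Matrix.mul_apply (M := P⁻¹)]
      exact Finset.sum_congr rfl fun j _ => by rw [show (A * P) j 0 = _ from congrFun hcol j]; rfl
    rw [this, ← mul_assoc, hu, one_mul]
  exact ⟨(key 0).trans (by simp), (key 1).trans (by simp), (key 2).trans (by simp)⟩

/-- With first column `(m,1,0)`, `m ≠ 0` and nonzero determinant, one can make the Schur complement non-scalar. -/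
theorem exists_sim_nonScalar_schur (A : M3) (m : F) (hm : m ≠ 0) (hA : ∀ r : F, A ≠ r • (1 : M3))
    (hdet : A.det ≠ 0) :
    ∃ M : M3, Sim A M ∧ M 0 0 = m ∧ (M 1 2 - M 1 0 * M 0 2 / m ≠ 0 ∨ M 2 1 - M 2 0 * M 0 1 / m ≠ 0 ∨
      M 1 1 - M 1 0 * M 0 1 / m ≠ M 2 2 - M 2 0 * M 0 2 / m) := by
  obtain ⟨M, hs, h00, h10, h20⟩ := exists_sim_first_col A m hA
  by_cases h : M 1 2 - M 1 0 * M 0 2 / m ≠ 0 ∨ M 2 1 - M 2 0 * M 0 1 / m ≠ 0 ∨
      M 1 1 - M 1 0 * M 0 1 / m ≠ M 2 2 - M 2 0 * M 0 2 / m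
  · exact ⟨M, hs, h00, h⟩
  simp only [not_or, not_not] at h
  have hM22 : M 2 2 ≠ 0 := by
    intro e
    apply hdet
    rw [hs.det_eq, Matrix.det_fin_three, h20, e]
    have := h.2.1
    rw [h20] at this
    simp at this
    rw [this]; ring
  refine ⟨!![m - 0, M 0 1 - M 2 1, m + M 0 2 - M 2 2; 1, M 1 1, 1 + M 1 2; 0, M 2 1, M 2 2],
    hs.trans ⟨!![1, 0, 1; 0, 1, 0; 0, 0, 1], by simp [Matrix.det_fin_three], ?_⟩, by simp, Or.inl ?_⟩
  · ext i j
    fin_cases i <;> fin_cases j <;> simp [Matrix.mul_apply, Fin.sum_univ_three, h00, h10, h20] <;> ring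
  · have h1 := h.1
    rw [h10] at h1
    simp
    intro e
    apply hM22
    field_simp at h1 e
    linear_combination e - h1

/-- A non-scalar matrix is similar to one with prescribed leading principal minors `m`, `m·c`. -/
theorem exists_sim_leading_minors (A : M3) (m c : F) (hm : m ≠ 0) (hA : ∀ r : F, A ≠ r • (1 : M3))
    (hdet : A.det ≠ 0) :
    ∃ M : M3, Sim A M ∧ M 0 0 = m ∧ M 1 1 - M 1 0 * M 0 1 / m = c := by
  obtain ⟨M, hs, h00, hns⟩ := exists_sim_nonScalar_schur A m hm hA hdet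
  set s00 := M 1 1 - M 1 0 * M 0 1 / m with e00
  set s01 := M 1 2 - M 1 0 * M 0 2 / m with e01
  set s10 := M 2 1 - M 2 0 * M 0 1 / m with e10
  set s11 := M 2 2 - M 2 0 * M 0 2 / m with e11
  obtain ⟨a, b, hd⟩ : ∃ a b : F, a * (s10 * a + s11 * b) - b * (s00 * a + s01 * b) ≠ 0 := by
    by_contra h
    push Not at h
    have h1 := h 1 0
    have h2 := h 0 1
    have h3 := h 1 1
    simp at h1 h2
    rcases hns with h' | h' | h'
    · exact h' h2
    · exact h' h1
    · exact h' (by linear_combination h1 - h2 - h3)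
  set P : M3 := !![1, 0, 0; 0, a, s00 * a + s01 * b - c * a; 0, b, s10 * a + s11 * b - c * b] with hP
  have hPd : P.det ≠ 0 := by
    rw [hP]; simp [Matrix.det_fin_three]
    intro e; apply hd; linear_combination e
  refine ⟨P⁻¹ * M * P, hs.trans (sim_inv_mul M hPd), ?_, ?_⟩
  all_goals
    generalize hN : P⁻¹ * M * P = N
    have e : M * P = P * N := by
      rw [← hN, ← mul_assoc, ← mul_assoc, Matrix.mul_nonsing_inv P hPd.isUnit, one_mul]
    have p00 := congrFun (congrFun e 0) 0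
    have p01 := congrFun (congrFun e 0) 1
    simp [hP, Matrix.mul_apply, Fin.sum_univ_three, h00] at p00 p01
  · exact p00.symm
  · have p10 := congrFun (congrFun e 1) 0
    have p20 := congrFun (congrFun e 2) 0
    have p11 := congrFun (congrFun e 1) 1
    have p21 := congrFun (congrFun e 2) 1
    simp [hP, Matrix.mul_apply, Fin.sum_univ_three] at p10 p20 p11 p21
    generalize hx : s00 * a + s01 * b - c * a = x at p10 p20 p11 p21
    generalize hy : s10 * a + s11 * b - c * b = y at p10 p20 p11 p21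
    set n := N 1 1 - N 1 0 * N 0 1 / m with hn
    set n' := N 2 1 - N 2 0 * N 0 1 / m with hn'
    have q1 : a * (n - c) + x * (n' - 1) = 0 := by
      rw [← hx, hn, hn', e00, e01, ← p01]
      rw [← hx, e00, e01] at p10 p11
      field_simp at p10 p11 ⊢
      grind
    have q2 : b * (n - c) + y * (n' - 1) = 0 := by
      rw [← hy, hn, hn', e10, e11, ← p01]
      rw [← hy, e10, e11] at p20 p21
      field_simp at p20 p21 ⊢
      grind
    have hz : (n - c) * (a * (s10 * a + s11 * b) - b * (s00 * a + s01 * b)) = 0 := by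
      linear_combination y * q1 - x * q2 - a * (n - c) * (-1) * hy - b * (n - c) * hx
    exact sub_eq_zero.1 ((mul_eq_zero.1 hz).resolve_right hd)

/-- Lower triangular with diagonal `(x,y,z)` pairwise distinct: conjugate to the diagonal by a unitriangular matrix. -/
theorem lower_sim_diag (x y z p q r : F) (hxy : x ≠ y) (hyz : y ≠ z) (hxz : x ≠ z) :
    ∃ Z : M3, Z.det = 1 ∧ !![x, 0, 0; p, y, 0; q, r, z] * Z = Z * !![x, 0, 0; 0, y, 0; 0, 0, z] := by
  have h1 := sub_ne_zero.2 hxy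
  have h2 := sub_ne_zero.2 hyz
  have h3 := sub_ne_zero.2 hxz
  refine ⟨!![1, 0, 0; p / (x - y), 1, 0; (q + r * (p / (x - y))) / (x - z), r / (y - z), 1],
    by simp [Matrix.det_fin_three], ?_⟩
  ext i j
  fin_cases i <;> fin_cases j <;> simp [Matrix.mul_apply, Fin.sum_univ_three] <;> field_simp <;> ring

/-- Upper triangular with diagonal `(x,y,z)` pairwise distinct: conjugate to the diagonal by a unitriangular matrix. -/
theorem upper_sim_diag (x y z p q r : F) (hxy : x ≠ y) (hyz : y ≠ z) (hxz : x ≠ z) :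
    ∃ Z : M3, Z.det = 1 ∧ !![x, p, q; 0, y, r; 0, 0, z] * Z = Z * !![x, 0, 0; 0, y, 0; 0, 0, z] := by
  have h1 := sub_ne_zero.2 (Ne.symm hxy)
  have h2 := sub_ne_zero.2 (Ne.symm hyz)
  have h3 := sub_ne_zero.2 (Ne.symm hxz)
  refine ⟨!![1, p / (y - x), (q + p * (r / (z - y))) / (z - x); 0, 1, r / (z - y); 0, 0, 1],
    by simp [Matrix.det_fin_three], ?_⟩
  ext i j
  fin_cases i <;> fin_cases j <;> simp [Matrix.mul_apply, Fin.sum_univ_three] <;> field_simp <;> ring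

/-- An element of `SL(3,F)` similar to a diagonal one is conjugate to it inside `SL(3,F)`. -/
theorem conj_of_sim_diag (g D : SL(3, F)) (x y z : F) (hD : (D : M3) = !![x, 0, 0; 0, y, 0; 0, 0, z])
    (h : Sim (g : M3) (D : M3)) : ∃ u : SL(3, F), g = u * D * u⁻¹ := by
  obtain ⟨P, hP, e⟩ := h
  have hdet : (P * !![(P.det)⁻¹, 0, 0; 0, 1, 0; 0, 0, 1]).det = 1 := by
    rw [det_mul]
    generalize P.det = d at hP ⊢
    simp [Matrix.det_fin_three, hP]
  let u : SL(3, F) := ⟨P * !![(P.det)⁻¹, 0, 0; 0, 1, 0; 0, 0, 1], hdet⟩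
  refine ⟨u, ?_⟩
  rw [eq_mul_inv_iff_mul_eq]
  apply Subtype.ext
  show (g : M3) * (P * !![(P.det)⁻¹, 0, 0; 0, 1, 0; 0, 0, 1])
    = P * !![(P.det)⁻¹, 0, 0; 0, 1, 0; 0, 0, 1] * (D : M3)
  rw [← mul_assoc, e, mul_assoc, mul_assoc, hD]
  congr 1
  ext i j
  fin_cases i <;> fin_cases j <;> simp [Matrix.mul_apply, Fin.sum_univ_three] <;> ring

/-- The element `diag(1, b, b⁻¹)`. -/
def diagOne (b : F) (hb : b ≠ 0) : SL(3, F) :=
  ⟨!![1, 0, 0; 0, b, 0; 0, 0, b⁻¹], by simp [Matrix.det_fin_three, hb]⟩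

/-- **Sourour, degree 3.** -/
theorem exists_factor (b : F) (hb : b ≠ 0) (h1 : b ≠ 1) (h2 : b ^ 2 ≠ 1) (g : SL(3, F))
    (hg : ∀ r : F, (g : M3) ≠ r • (1 : M3)) :
    ∃ u v : SL(3, F), g = (u * diagOne b hb * u⁻¹) * (v * diagOne b hb * v⁻¹) := by
  have hbc : b ≠ b⁻¹ := by
    intro e; apply h2; field_simp at e; linear_combination e
  have hc1 : (1 : F) ≠ b⁻¹ := by
    intro e; apply h1; rw [← inv_inv b, ← e, inv_one]
  obtain ⟨M, hs, h00, hc⟩ :=
    exists_sim_leading_minors (g : M3) 1 (b * b) one_ne_zero hg (by rw [g.prop]; exact one_ne_zero)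
  set L : M3 := !![1, 0, 0; M 1 0, b, 0; M 2 0, (M 2 1 - M 2 0 * M 0 1) / b, b⁻¹] with hL
  set U : M3 := !![1, M 0 1, M 0 2; 0, b, (M 1 2 - M 1 0 * M 0 2) / b; 0, 0, b⁻¹] with hU
  have hdetM : M.det = 1 := by rw [← hs.det_eq]; exact g.prop
  rw [Matrix.det_fin_three, h00] at hdetM
  have hLU : M = L * U := by
    ext i j
    fin_cases i <;> fin_cases j <;> simp [hL, hU, Matrix.mul_apply, Fin.sum_univ_three, h00] <;>
      field_simp <;> grind
  obtain ⟨P, hP, e⟩ := hs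
  have hLdet : L.det = 1 := by simp [hL, Matrix.det_fin_three, hb]
  have hUdet : U.det = 1 := by simp [hU, Matrix.det_fin_three, hb]
  let X : SL(3, F) := ⟨P * L * P⁻¹, by
    rw [det_mul, det_mul, mul_right_comm, ← det_mul, Matrix.mul_nonsing_inv P hP.isUnit, det_one, one_mul, hLdet]⟩
  let Y : SL(3, F) := ⟨P * U * P⁻¹, by
    rw [det_mul, det_mul, mul_right_comm, ← det_mul, Matrix.mul_nonsing_inv P hP.isUnit, det_one, one_mul, hUdet]⟩
  have key : ∀ (T : M3) (W : SL(3, F)), (W : M3) = P * T * P⁻¹ →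
      (∃ Z : M3, Z.det = 1 ∧ T * Z = Z * !![1, 0, 0; 0, b, 0; 0, 0, b⁻¹]) →
      ∃ u : SL(3, F), W = u * diagOne b hb * u⁻¹ := by
    intro T W hW hZ
    obtain ⟨Z, hZ1, hZ2⟩ := hZ
    refine conj_of_sim_diag W (diagOne b hb) _ _ _ rfl (Sim.trans ⟨P, hP, ?_⟩ ⟨Z, by rw [hZ1]; exact one_ne_zero, hZ2⟩)
    rw [hW, mul_assoc, Matrix.nonsing_inv_mul P hP.isUnit, mul_one]
  obtain ⟨u, hu⟩ := key L X rfl (lower_sim_diag 1 b b⁻¹ _ _ _ (Ne.symm h1) hbc hc1)
  obtain ⟨v, hv⟩ := key U Y rfl (upper_sim_diag 1 b b⁻¹ _ _ _ (Ne.symm h1) hbc hc1)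
  refine ⟨u, v, ?_⟩
  rw [← hu, ← hv]
  apply Subtype.ext
  show (g : M3) = P * L * P⁻¹ * (P * U * P⁻¹)
  calc (g : M3) = (g : M3) * P * P⁻¹ := by rw [mul_assoc, Matrix.mul_nonsing_inv P hP.isUnit, mul_one]
    _ = P * M * P⁻¹ := by rw [e]
    _ = _ := by
      rw [hLU]
      simp only [mul_assoc]
      rw [← mul_assoc P⁻¹ P, Matrix.nonsing_inv_mul P hP.isUnit, one_mul]

end CfsgLib.SL3Cover
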