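import Cfsg.Agent.SL3Cover.Factor

set_option autoImplicit false

/-!
The case of three elements: certificates that the class of an element of order 4 squares to everything but 1.
-/

namespace CfsgLib.SL3Cover

open Matrix
open scoped MatrixGroups

set_option maxRecDepth 100000

/-- An element of order four of `SL(3,3)`. -/
def xThree : Matrix (Fin 3) (Fin 3) (ZMod 3) := !![0,0,1; 0,1,0; 2,0,0]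

/-- Certificates `(M, u, u⁻¹, v, v⁻¹)` with `M = (u x u⁻¹) (v x v⁻¹)`. -/
def certs : List (Matrix (Fin 3) (Fin 3) (ZMod 3) × Matrix (Fin 3) (Fin 3) (ZMod 3) × Matrix (Fin 3) (Fin 3) (ZMod 3) ×
    Matrix (Fin 3) (Fin 3) (ZMod 3) × Matrix (Fin 3) (Fin 3) (ZMod 3)) :=
  [
    (!![1,0,0; 1,1,0; 0,0,1], !![0,0,1; 0,1,0; 2,0,0], !![0,0,2; 0,1,0; 1,0,0], !![0,0,1; 2,2,1; 1,0,0], !![0,0,1; 1,2,2; 1,0,0]),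
    (!![1,0,0; 1,1,1; 0,0,1], !![0,0,1; 0,1,0; 2,0,0], !![0,0,2; 0,1,0; 1,0,0], !![0,0,1; 0,2,2; 1,0,0], !![0,0,1; 2,2,0; 1,0,0]),
    (!![1,0,0; 1,1,2; 0,0,1], !![0,0,1; 0,1,0; 2,0,0], !![0,0,2; 0,1,0; 1,0,0], !![0,0,1; 1,2,0; 1,0,0], !![0,0,1; 0,2,1; 1,0,0]),
    (!![1,0,0; 1,2,0; 0,0,2], !![0,1,0; 0,0,1; 1,0,0], !![0,0,1; 1,0,0; 0,1,0], !![0,1,0; 0,2,1; 1,1,0], !![2,0,1; 1,0,0; 1,1,0]),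
    (!![1,0,0; 1,2,1; 0,0,2], !![0,0,1; 0,1,0; 2,1,2], !![2,1,2; 0,1,0; 1,0,0], !![0,1,1; 0,1,2; 1,1,1], !![2,0,1; 2,2,0; 2,1,0]),
    (!![1,0,0; 1,2,2; 0,0,2], !![0,0,1; 0,1,1; 2,1,1], !![0,1,2; 2,1,0; 1,0,0], !![0,2,1; 1,0,1; 2,2,1], !![1,0,2; 1,1,1; 2,1,1]),
    (!![1,0,1; 1,1,0; 0,0,1], !![0,0,1; 0,1,0; 2,1,1], !![1,1,2; 0,1,0; 1,0,0], !![0,0,1; 2,0,1; 1,2,1], !![1,2,0; 2,2,2; 1,0,0]),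
    (!![1,0,1; 1,1,1; 0,0,1], !![0,0,1; 0,1,0; 2,1,2], !![2,1,2; 0,1,0; 1,0,0], !![0,2,1; 1,0,0; 2,1,0], !![0,1,0; 0,1,1; 1,1,1]),
    (!![1,0,1; 1,1,2; 0,0,1], !![0,0,1; 0,1,1; 2,1,2], !![1,1,2; 2,1,0; 1,0,0], !![0,2,1; 1,2,1; 2,1,0], !![2,1,0; 2,1,1; 0,1,1]),
    (!![1,0,1; 1,2,0; 0,0,2], !![0,0,1; 0,1,0; 2,1,0], !![0,1,2; 0,1,0; 1,0,0], !![0,2,1; 2,1,2; 1,1,1], !![2,2,0; 0,2,2; 1,2,2]),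
    (!![1,0,1; 1,2,1; 0,0,2], !![0,0,1; 0,1,1; 2,1,2], !![1,1,2; 2,1,0; 1,0,0], !![0,0,1; 1,0,2; 1,1,2], !![1,1,0; 0,2,1; 1,0,0]),
    (!![1,0,1; 1,2,2; 0,0,2], !![0,0,1; 1,0,0; 0,1,1], !![0,1,0; 2,0,1; 1,0,0], !![0,0,1; 1,2,0; 0,1,1], !![2,1,1; 2,0,1; 1,0,0]),
    (!![1,0,2; 1,1,0; 0,0,1], !![0,0,1; 0,1,0; 2,2,1], !![1,2,2; 0,1,0; 1,0,0], !![0,0,1; 2,1,1; 1,1,1], !![0,1,2; 2,2,2; 1,0,0]),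
    (!![1,0,2; 1,1,1; 0,0,1], !![0,0,1; 0,1,0; 2,2,0], !![0,2,2; 0,1,0; 1,0,0], !![0,2,1; 2,0,0; 1,1,1], !![0,2,0; 1,2,2; 2,2,2]),
    (!![1,0,2; 1,1,2; 0,0,1], !![0,0,1; 0,1,0; 2,2,2], !![2,2,2; 0,1,0; 1,0,0], !![0,1,1; 2,1,2; 1,1,1], !![2,0,1; 0,2,2; 1,1,1]),
    (!![1,0,2; 1,2,0; 0,0,2], !![0,0,1; 0,1,1; 2,1,0], !![2,1,2; 2,1,0; 1,0,0], !![0,0,1; 0,2,0; 1,1,0], !![0,1,1; 0,2,0; 1,0,0]),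
    (!![1,0,2; 1,2,1; 0,0,2], !![0,0,1; 1,0,0; 0,1,2], !![0,1,0; 1,0,1; 1,0,0], !![0,0,1; 1,1,0; 0,1,2], !![2,1,2; 1,0,1; 1,0,0]),
    (!![1,0,2; 1,2,2; 0,0,2], !![0,0,1; 0,1,0; 2,1,1], !![1,1,2; 0,1,0; 1,0,0], !![0,2,1; 2,0,1; 2,2,1], !![1,0,2; 0,1,2; 1,1,2]),
    (!![1,1,0; 1,0,0; 0,0,2], !![0,0,1; 0,1,0; 2,1,0], !![0,1,2; 0,1,0; 1,0,0], !![0,2,1; 1,2,0; 2,0,2], !![1,2,1; 1,1,1; 2,1,1]),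
    (!![1,1,0; 1,0,1; 0,0,2], !![0,0,1; 0,1,0; 2,0,2], !![2,0,2; 0,1,0; 1,0,0], !![0,0,1; 0,1,1; 2,1,2], !![1,1,2; 2,1,0; 1,0,0]),
    (!![1,1,0; 1,0,2; 0,0,2], !![0,0,1; 0,1,1; 2,1,2], !![1,1,2; 2,1,0; 1,0,0], !![0,2,1; 2,1,1; 1,0,0], !![0,0,1; 1,2,2; 2,2,2]),
    (!![1,1,0; 1,2,0; 0,0,1], !![0,0,1; 0,1,0; 2,2,2], !![2,2,2; 0,1,0; 1,0,0], !![0,1,1; 2,2,2; 1,0,1], !![2,2,0; 0,2,2; 1,1,1]),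
    (!![1,1,0; 1,2,1; 0,0,1], !![0,0,1; 0,1,0; 2,2,2], !![2,2,2; 0,1,0; 1,0,0], !![0,1,1; 1,2,2; 2,0,2], !![1,1,0; 2,1,1; 2,2,2]),
    (!![1,1,0; 1,2,2; 0,0,1], !![0,0,1; 0,1,0; 2,2,2], !![2,2,2; 0,1,0; 1,0,0], !![0,1,0; 0,2,1; 1,0,2], !![1,1,1; 1,0,0; 1,1,0]),
    (!![1,1,1; 1,0,0; 0,0,2], !![0,0,1; 0,1,0; 2,0,1], !![1,0,2; 0,1,0; 1,0,0], !![0,1,1; 1,1,0; 2,1,1], !![1,0,2; 2,1,1; 2,2,2]),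
    (!![1,1,1; 1,0,1; 0,0,2], !![0,0,1; 0,1,0; 2,0,0], !![0,0,2; 0,1,0; 1,0,0], !![0,2,1; 1,1,1; 2,2,0], !![1,2,1; 2,1,1; 0,1,1]),
    (!![1,1,1; 1,0,2; 0,0,2], !![0,0,1; 0,1,0; 2,1,0], !![0,1,2; 0,1,0; 1,0,0], !![0,1,0; 0,1,1; 1,0,0], !![0,0,1; 1,0,0; 2,1,0]),
    (!![1,1,1; 1,2,0; 0,0,1], !![0,0,1; 0,1,0; 2,0,1], !![1,0,2; 0,1,0; 1,0,0], !![0,0,1; 2,0,2; 1,2,1], !![2,2,0; 0,2,2; 1,0,0]),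
    (!![1,1,1; 1,2,1; 0,0,1], !![0,0,1; 0,1,0; 2,0,2], !![2,0,2; 0,1,0; 1,0,0], !![0,1,1; 2,0,1; 1,2,2], !![1,0,1; 0,2,2; 1,1,1]),
    (!![1,1,1; 1,2,2; 0,0,1], !![0,0,1; 0,1,1; 2,2,1], !![2,2,2; 2,1,0; 1,0,0], !![0,0,1; 2,2,1; 1,0,1], !![2,0,1; 2,2,2; 1,0,0]),
    (!![1,1,2; 1,0,0; 0,0,2], !![0,0,1; 0,1,0; 2,2,0], !![0,2,2; 0,1,0; 1,0,0], !![0,2,1; 1,2,0; 2,1,1], !![2,2,1; 2,1,1; 0,1,1]),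
    (!![1,1,2; 1,0,1; 0,0,2], !![0,0,1; 0,1,0; 2,1,0], !![0,1,2; 0,1,0; 1,0,0], !![0,2,1; 2,2,2; 1,0,1], !![2,1,2; 0,2,2; 1,2,2]),
    (!![1,1,2; 1,0,2; 0,0,2], !![0,0,1; 0,1,0; 2,2,1], !![1,2,2; 0,1,0; 1,0,0], !![0,1,1; 0,0,2; 2,1,1], !![1,0,2; 1,1,0; 0,2,0]),
    (!![1,1,2; 1,2,0; 0,0,1], !![0,0,1; 0,1,1; 2,0,2], !![2,0,2; 2,1,0; 1,0,0], !![0,1,1; 1,1,2; 1,2,2], !![1,0,1; 0,2,1; 1,1,2]),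
    (!![1,1,2; 1,2,1; 0,0,1], !![0,0,1; 0,1,0; 2,0,0], !![0,0,2; 0,1,0; 1,0,0], !![0,2,1; 1,0,0; 1,1,0], !![0,1,0; 0,2,1; 1,2,1]),
    (!![1,1,2; 1,2,2; 0,0,1], !![0,0,1; 0,1,0; 2,1,0], !![0,1,2; 0,1,0; 1,0,0], !![0,0,1; 2,1,0; 1,1,2], !![2,1,2; 2,2,2; 1,0,0]),
    (!![1,2,0; 1,0,0; 0,0,1], !![0,0,1; 0,1,0; 2,1,2], !![2,1,2; 0,1,0; 1,0,0], !![0,1,1; 1,1,0; 2,0,0], !![0,0,2; 0,1,1; 1,2,2]),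
    (!![1,2,0; 1,0,1; 0,0,1], !![0,0,1; 0,1,0; 2,1,2], !![2,1,2; 0,1,0; 1,0,0], !![0,1,1; 2,1,0; 0,0,1], !![1,2,2; 1,0,2; 0,0,1]),
    (!![1,2,0; 1,0,2; 0,0,1], !![0,0,1; 0,1,0; 2,1,2], !![2,1,2; 0,1,0; 1,0,0], !![0,2,1; 0,2,2; 2,0,1], !![2,1,2; 1,1,0; 2,1,0]),
    (!![1,2,0; 1,1,0; 0,0,2], !![0,0,1; 0,1,0; 2,1,1], !![1,1,2; 0,1,0; 1,0,0], !![0,0,1; 2,1,1; 2,0,1], !![1,0,2; 0,1,2; 1,0,0]),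
    (!![1,2,0; 1,1,1; 0,0,2], !![0,0,1; 0,1,0; 2,2,2], !![2,2,2; 0,1,0; 1,0,0], !![0,1,0; 1,2,1; 1,2,0], !![1,0,1; 1,0,0; 0,1,2]),
    (!![1,2,0; 1,1,2; 0,0,2], !![0,0,1; 0,1,0; 2,0,0], !![0,0,2; 0,1,0; 1,0,0], !![0,1,1; 0,0,2; 2,1,0], !![1,1,2; 1,1,0; 0,2,0]),
    (!![1,2,1; 1,0,0; 0,0,1], !![0,0,1; 0,1,0; 2,0,0], !![0,0,2; 0,1,0; 1,0,0], !![0,1,1; 1,1,0; 1,2,0], !![0,2,2; 0,2,1; 1,1,2]),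
    (!![1,2,1; 1,0,1; 0,0,1], !![0,0,1; 0,1,0; 2,2,2], !![2,2,2; 0,1,0; 1,0,0], !![0,1,1; 2,0,2; 1,2,1], !![2,1,2; 0,2,2; 1,1,1]),
    (!![1,2,1; 1,0,2; 0,0,1], !![0,0,1; 0,1,0; 2,1,1], !![1,1,2; 0,1,0; 1,0,0], !![0,0,1; 0,2,1; 1,1,1], !![1,1,1; 1,2,0; 1,0,0]),
    (!![1,2,1; 1,1,0; 0,0,2], !![0,0,1; 0,1,0; 2,0,2], !![2,0,2; 0,1,0; 1,0,0], !![0,0,1; 2,0,1; 2,2,2], !![1,2,0; 1,1,2; 1,0,0]),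
    (!![1,2,1; 1,1,1; 0,0,2], !![0,0,1; 0,1,1; 2,2,2], !![0,2,2; 2,1,0; 1,0,0], !![0,0,1; 1,0,2; 0,1,2], !![1,1,0; 1,0,1; 1,0,0]),
    (!![1,2,1; 1,1,2; 0,0,2], !![0,0,1; 0,1,0; 2,1,1], !![1,1,2; 0,1,0; 1,0,0], !![0,0,1; 1,1,1; 2,0,1], !![1,0,2; 1,1,1; 1,0,0]),
    (!![1,2,2; 1,0,0; 0,0,1], !![0,0,1; 0,1,0; 2,2,0], !![0,2,2; 0,1,0; 1,0,0], !![0,1,1; 1,1,0; 1,1,2], !![2,2,2; 1,2,1; 0,1,2]),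
    (!![1,2,2; 1,0,1; 0,0,1], !![0,0,1; 0,1,0; 2,0,1], !![1,0,2; 0,1,0; 1,0,0], !![0,0,1; 2,1,2; 1,1,1], !![2,1,2; 0,2,2; 1,0,0]),
    (!![1,2,2; 1,0,2; 0,0,1], !![0,0,1; 0,1,0; 2,0,2], !![2,0,2; 0,1,0; 1,0,0], !![0,2,1; 2,1,1; 1,1,2], !![1,0,1; 0,2,2; 1,2,2]),
    (!![1,2,2; 1,1,0; 0,0,2], !![0,0,1; 0,1,1; 2,1,0], !![2,1,2; 2,1,0; 1,0,0], !![0,1,1; 0,2,0; 1,0,0], !![0,0,1; 0,2,0; 1,1,0]),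
    (!![1,2,2; 1,1,1; 0,0,2], !![0,0,1; 0,1,0; 2,1,1], !![1,1,2; 0,1,0; 1,0,0], !![0,0,1; 0,1,1; 2,0,1], !![1,0,2; 2,1,0; 1,0,0]),
    (!![1,2,2; 1,1,2; 0,0,2], !![0,0,1; 0,1,0; 2,0,1], !![1,0,2; 0,1,0; 1,0,0], !![0,2,1; 1,0,1; 2,2,1], !![1,0,2; 1,1,1; 2,1,1]),
    (!![0,0,1; 1,0,0; 0,1,0], !![0,0,1; 0,1,0; 2,0,0], !![0,0,2; 0,1,0; 1,0,0], !![0,0,1; 1,0,0; 0,1,0], !![0,1,0; 0,0,1; 1,0,0]),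
    (!![0,0,1; 1,0,0; 0,1,1], !![0,0,1; 0,1,0; 2,0,0], !![0,0,2; 0,1,0; 1,0,0], !![0,1,1; 1,1,0; 0,1,0], !![0,1,2; 0,0,1; 1,0,2]),
    (!![0,0,1; 1,0,0; 0,1,2], !![0,0,1; 0,1,0; 2,0,0], !![0,0,2; 0,1,0; 1,0,0], !![0,2,1; 1,2,0; 0,1,0], !![0,1,1; 0,0,1; 1,0,1]),
    (!![0,0,1; 1,0,1; 0,1,0], !![0,0,1; 0,1,0; 2,0,0], !![0,0,2; 0,1,0; 1,0,0], !![0,1,1; 1,2,0; 0,1,0], !![0,1,1; 0,0,1; 1,0,2]),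
    (!![0,0,1; 1,0,1; 0,1,1], !![0,0,1; 0,1,0; 2,0,0], !![0,0,2; 0,1,0; 1,0,0], !![0,2,1; 1,0,0; 0,1,0], !![0,1,0; 0,0,1; 1,0,1]),
    (!![0,0,1; 1,0,1; 0,1,2], !![0,0,1; 0,1,0; 2,0,0], !![0,0,2; 0,1,0; 1,0,0], !![0,0,1; 1,1,0; 0,1,0], !![0,1,2; 0,0,1; 1,0,0]),
    (!![0,0,1; 1,0,2; 0,1,0], !![0,0,1; 0,1,0; 2,0,0], !![0,0,2; 0,1,0; 1,0,0], !![0,2,1; 1,1,0; 0,1,0], !![0,1,2; 0,0,1; 1,0,1]),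
    (!![0,0,1; 1,0,2; 0,1,1], !![0,0,1; 0,1,0; 2,0,0], !![0,0,2; 0,1,0; 1,0,0], !![0,0,1; 1,2,0; 0,1,0], !![0,1,1; 0,0,1; 1,0,0]),
    (!![0,0,1; 1,0,2; 0,1,2], !![0,0,1; 0,1,0; 2,0,0], !![0,0,2; 0,1,0; 1,0,0], !![0,1,1; 1,0,0; 0,1,0], !![0,1,0; 0,0,1; 1,0,2])
  ]
/-- `det` in degree 3, computably cheap. -/
def det3 (A : Matrix (Fin 3) (Fin 3) (ZMod 3)) : ZMod 3 :=
  A 0 0 * (A 1 1 * A 2 2 - A 1 2 * A 2 1) - A 0 1 * (A 1 0 * A 2 2 - A 1 2 * A 2 0) +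
    A 0 2 * (A 1 0 * A 2 1 - A 1 1 * A 2 0)

theorem det3_eq (A : Matrix (Fin 3) (Fin 3) (ZMod 3)) : A.det = det3 A := by
  rw [Matrix.det_fin_three, det3]; ring

theorem det3_xThree : det3 xThree = 1 := by decide +kernel

theorem certs_valid : ∀ t ∈ certs, det3 t.2.1 = 1 ∧ det3 t.2.2.2.1 = 1 ∧ t.2.1 * t.2.2.1 = 1 ∧
    t.2.2.2.1 * t.2.2.2.2 = 1 ∧
    t.1 = t.2.1 * xThree * t.2.2.1 * (t.2.2.2.1 * xThree * t.2.2.2.2) := by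
  decide +kernel

theorem certs_cover : (∀ a b c d : ZMod 3, c ≠ a → ∃ t ∈ certs, t.1 = !![1, a, b; 1, c, d; 0, 0, c - a]) ∧
    (∀ s t : ZMod 3, ∃ w ∈ certs, w.1 = !![0, 0, 1; 1, 0, s; 0, 1, t]) := by
  decide +kernel

/-- The order-four element in `SL(3, ZMod 3)`. -/
def xThreeSL : SL(3, ZMod 3) := ⟨xThree, by rw [det3_eq]; exact det3_xThree⟩

/-- Every non-scalar element of `SL(3,3)` is a product of two conjugates of `xThreeSL`. -/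
theorem exists_factor_three (g : SL(3, ZMod 3))
    (hg : ∀ r : ZMod 3, (g : Matrix (Fin 3) (Fin 3) (ZMod 3)) ≠ r • 1) :
    ∃ u v : SL(3, ZMod 3), g = (u * xThreeSL * u⁻¹) * (v * xThreeSL * v⁻¹) := by
  obtain ⟨M, hs, h00, h10, h20⟩ := exists_sim_first_col (g : Matrix (Fin 3) (Fin 3) (ZMod 3)) 1 hg
  have hd : M.det = 1 := by rw [← hs.det_eq]; exact g.prop
  obtain ⟨N, t, hN, ht, htN⟩ : ∃ N t, Sim (g : Matrix (Fin 3) (Fin 3) (ZMod 3)) N ∧ t ∈ certs ∧ t.1 = N := by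
    rw [Matrix.det_fin_three, h00, h10, h20] at hd
    by_cases h : M 2 1 = 0
    · have hne : M 1 1 ≠ M 0 1 := by
        intro e; rw [h, e] at hd; revert hd; ring_nf; decide
      obtain ⟨t, ht, e⟩ := certs_cover.1 (M 0 1) (M 0 2) (M 1 1) (M 1 2) hne
      refine ⟨M, t, hs, ht, e.trans ?_⟩
      rw [h] at hd
      have h22 : M 2 2 = M 1 1 - M 0 1 := by
        revert hd hne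
        generalize M 2 2 = e
        generalize M 1 1 = c
        generalize M 0 1 = a
        generalize M 0 2 = b
        generalize M 1 2 = d
        revert a b c d e
        decide
      ext i j
      fin_cases i <;> fin_cases j <;> simp [h00, h10, h20, h, h22]
    · set c2 := 1 + M 1 1 + M 2 2 with hc2
      set c1 := -(M 1 1 - M 0 1 + M 2 2 + (M 1 1 * M 2 2 - M 1 2 * M 2 1)) with hc1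
      obtain ⟨t, ht, e⟩ := certs_cover.2 c1 c2
      refine ⟨_, t, hs.trans ⟨!![1, 1, 1 + M 0 1; 0, 1, 1 + M 1 1; 0, 0, M 2 1], ?_, ?_⟩, ht, e⟩
      · simp [Matrix.det_fin_three, h]
      · ext i j
        fin_cases i <;> fin_cases j <;>
          simp [Matrix.mul_apply, Fin.sum_univ_three, h00, h10, h20, hc1, hc2] <;> grind
  obtain ⟨du, dv, hu, hv, hval⟩ := certs_valid t ht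
  obtain ⟨P, hP, e⟩ := hN
  rw [← htN, hval] at e
  obtain ⟨ε, hε, hεd⟩ : ∃ ε : ZMod 3, ε * ε = 1 ∧ ε * P.det = 1 := by
    revert hP; generalize P.det = d; revert d; decide
  have hPd : (ε • P).det = 1 := by
    rw [Matrix.det_smul, Fintype.card_fin, pow_succ, pow_two, hε, one_mul, hεd]
  let Q : SL(3, ZMod 3) := ⟨ε • P, hPd⟩
  let u : SL(3, ZMod 3) := ⟨t.2.1, by rw [det3_eq]; exact du⟩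
  let v : SL(3, ZMod 3) := ⟨t.2.2.2.1, by rw [det3_eq]; exact dv⟩
  have hinv : ∀ (w : SL(3, ZMod 3)) (wi : Matrix (Fin 3) (Fin 3) (ZMod 3)),
      (w : Matrix (Fin 3) (Fin 3) (ZMod 3)) * wi = 1 → ((w⁻¹ : SL(3, ZMod 3)) : Matrix (Fin 3) (Fin 3) (ZMod 3)) = wi := by
    intro w wi h
    have h' := congrArg (fun z : SL(3, ZMod 3) => (z : Matrix (Fin 3) (Fin 3) (ZMod 3))) (inv_mul_cancel w)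
    simp only [Matrix.SpecialLinearGroup.coe_mul, Matrix.SpecialLinearGroup.coe_one] at h'
    calc _ = ((w⁻¹ : SL(3, ZMod 3)) : Matrix (Fin 3) (Fin 3) (ZMod 3)) * ((w : Matrix (Fin 3) (Fin 3) (ZMod 3)) * wi) := by rw [h, mul_one]
      _ = wi := by rw [← mul_assoc, h', one_mul]
  refine ⟨Q * u, Q * v, ?_⟩
  have key : g = Q * (u * xThreeSL * u⁻¹ * (v * xThreeSL * v⁻¹)) * Q⁻¹ := by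
    rw [eq_mul_inv_iff_mul_eq]
    apply Subtype.ext
    simp only [Matrix.SpecialLinearGroup.coe_mul, hinv u _ hu, hinv v _ hv]
    show (g : Matrix (Fin 3) (Fin 3) (ZMod 3)) * (ε • P) = (ε • P) * _
    rw [mul_smul_comm, e, smul_mul_assoc]
    rfl
  conv_lhs => rw [key]
  group

end CfsgLib.SL3Cover
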